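import Cfsg.Agent.Lib.FrobAct.Nil
import Cfsg.Agent.Lib.FrobAct.Wrap

/-!
# Fitting height two for a nonabelian group of order `pq` acting without common fixed points
-/

set_option autoImplicit false

namespace Cfsg.Agent.Lib.FrobAct.Height

open Cfsg Cfsg.Agent.Lib.Core.Basic Cfsg.Agent.Lib.FPFThompson.Main
open Cfsg.Agent.Lib.FrobAct.Basic Cfsg.Agent.Lib.FrobAct.Weights Cfsg.Agent.Lib.FrobAct.Irr
open Cfsg.Agent.Lib.FrobAct.Sec Cfsg.Agent.Lib.FrobAct.Wrap
open Cfsg.Agent.Lib.Coprime.Action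
open Cfsg.Agent.Lib.Ward.Chief Cfsg.Agent.Lib.Ward.Main
open scoped commutatorElement

universe u v

/-- The chief action, on types. -/
theorem nilpotent_of_type {X A M : Type*} [Group X] [Finite X] [Group A] [Finite A] [CommGroup M] [Finite M]
    {r p q : ℕ} {a₀ : A} (hA : AData p q a₀) (α : A →* MulAut X) (ρ : X →* MulAut M)
    (σ : A →* MulAut M) (compat : ∀ a x v, σ a (ρ x v) = ρ (α a x) (σ a v))
    (hsolv : Group.IsSolvable X) (hfix : ∀ x, (∀ a, α a x = x) → x = 1)
    (hVfix : ∀ v, (∀ a, σ a v = v) → v = 1) (hρ : Function.Injective ρ) (hr : r.Prime)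
    (hexp : ∀ v : M, v ^ r = 1) (hVr : ∃ k, Nat.card M = r ^ k) (hrA : (Nat.card A).Coprime r)
    (hAX : (Nat.card A).Coprime (Nat.card X))
    (hirr : ∀ W : Subgroup M, (∀ x, ∀ w ∈ W, ρ x w ∈ W) → (∀ a, ∀ w ∈ W, σ a w ∈ W) → W ≠ ⊥ → W = ⊤) :
    Group.IsNilpotent X := by
  letI : DistribMulAction (X ⋊[α] A) (Additive M) := addAct (tauHom α ρ σ compat)
  haveI : Finite (X ⋊[α] A) := Finite.of_equiv (X × A) SemidirectProduct.equivProd.symm
  have hI := irr_of_type hA α ρ σ compat hsolv hfix hVfix hρ hr hexp hVr hrA hAX hirr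
  haveI := hI.nil
  let f : X →* (SemidirectProduct.inl : X →* X ⋊[α] A).range :=
    (SemidirectProduct.inl : X →* X ⋊[α] A).rangeRestrict
  have hf : Function.Injective f := by
    intro x y hxy
    apply SemidirectProduct.inl_injective (φ := α)
    exact congrArg Subtype.val hxy
  exact isNilpotent_of_injective f hf

/-- **Fitting height two**, abstract form. -/
theorem height_ind {A : Type v} [Group A] [Finite A] {p q : ℕ} {a₀ : A} (hA : AData p q a₀) :
    ∀ (n : ℕ) (G : Type u) [Group G] [Finite G], Nat.card G = n → Group.IsSolvable G →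
      ∀ α : A →* MulAut G, (∀ x, (∀ a, α a x = x) → x = 1) → (Nat.card A).Coprime (Nat.card G) →
      ∃ N : Subgroup G, N.Normal ∧ Group.IsNilpotent N ∧
        ∃ k, (⊤ : Subgroup G).lowerCentralSeries k ≤ N := by
  intro n
  induction n using Nat.strong_induction_on with
  | _ n IH =>
  intro G _ _ hn hsolv α hfix hcop
  by_cases htriv : Subsingleton G
  · refine ⟨⊤, inferInstance, ?_, 0, le_top⟩
    infer_instance
  rw [not_subsingleton_iff_nontrivial] at htriv
  obtain ⟨V₀, hV₀n, hV₀1, hV₀α, hQ⟩ := chief_step (A := A) (fun (X : Type u) [Group X] => Group.IsNilpotent X)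
    (fun X M _ _ _ _ r hr hMc α ρ σ compat hsolv hfix hVfix hρ hexp hVr hrA hAX hirr => by
      letI : CommGroup M := { ‹Group M› with mul_comm := hMc }
      exact nilpotent_of_type hA α ρ σ compat hsolv hfix hVfix hρ hr hexp hVr hrA hAX hirr) G α hfix hcop
  haveI := hV₀n
  have hlt : Nat.card (G ⧸ V₀) < n := by
    have h1 := Subgroup.card_eq_card_quotient_mul_card_subgroup V₀
    rw [hn] at h1
    have hc : Nat.card V₀ ≠ 1 := fun h => hV₀1 (Subgroup.eq_bot_of_card_eq V₀ h)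
    have h2 : 1 < Nat.card V₀ := by
      have := (Nat.card_pos (α := V₀))
      omega
    have h3 : 0 < Nat.card (G ⧸ V₀) := Nat.card_pos
    rw [h1]
    nlinarith
  have hfix₁ : ∀ x : G ⧸ V₀, (∀ a, quotHom α V₀ hV₀α a x = x) → x = 1 := by
    intro x
    induction x using QuotientGroup.induction_on with
    | H g =>
      intro h
      have hg : g ∈ V₀ := coset_fixed' α V₀ hV₀α hcop hfix fun a => by
        have h1 : ((α a g : G) : G ⧸ V₀) = (g : G ⧸ V₀) := h a
        exact QuotientGroup.eq.mp h1.symm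
      exact (QuotientGroup.eq_one_iff g).mpr hg
  obtain ⟨N₁, hN₁n, hN₁nil, k₁, hk₁⟩ := IH _ hlt (G ⧸ V₀) rfl
    (solvable_of_surjective (QuotientGroup.mk'_surjective V₀)) (quotHom α V₀ hV₀α) hfix₁
    (Nat.Coprime.coprime_dvd_right (Subgroup.card_quotient_dvd_card V₀) hcop)
  let C : Subgroup G := (MulAut.conjNormal : G →* MulAut V₀).ker
  have hCmem : ∀ x ∈ C, ∀ v : V₀, x * v * x⁻¹ = v := by
    intro x hx v
    have h3 : (MulAut.conjNormal x : MulAut V₀) = 1 := hx
    have h4 := congrArg (fun e : MulAut V₀ => ((e v : V₀) : G)) h3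
    have h6 := MulAut.conjNormal_apply (H := V₀) x v
    rw [← h6]
    exact h4
  haveI hnilX : Group.IsNilpotent (G ⧸ C) := hQ
  obtain ⟨k₂, hk₂⟩ := Subgroup.nilpotent_iff_lowerCentralSeries.mp hnilX
  let π₁ : G →* G ⧸ V₀ := QuotientGroup.mk' V₀
  let π₂ : G →* G ⧸ C := QuotientGroup.mk' C
  have hπ₁ : Function.Surjective π₁ := QuotientGroup.mk'_surjective V₀
  have hπ₂ : Function.Surjective π₂ := QuotientGroup.mk'_surjective C
  have hCn : C.Normal := MonoidHom.normal_ker _
  refine ⟨N₁.comap π₁ ⊓ C, Subgroup.normal_inf_normal _ _, ?_, max k₁ k₂, ?_⟩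
  · let f : (N₁.comap π₁ ⊓ C : Subgroup G) →* N₁ :=
      (π₁.comp (N₁.comap π₁ ⊓ C : Subgroup G).subtype).codRestrict N₁ (fun x => x.2.1)
    refine Subgroup.isNilpotent_of_ker_le_center f ?_
    intro x hx
    rw [Subgroup.mem_center_iff]
    intro y
    have h1 : π₁ x = 1 := congrArg Subtype.val hx
    have h2 : (x : G) ∈ V₀ := (QuotientGroup.eq_one_iff _).mp h1
    have h3 := hCmem _ y.2.2 ⟨x, h2⟩
    apply Subtype.ext
    show (y : G) * x = x * y
    calc (y : G) * x = (y * x * (y : G)⁻¹) * y := by group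
      _ = x * y := by rw [h3]
  · apply le_inf
    · intro x hx
      have h1 := Subgroup.lowerCentralSeries_antitone (⊤ : Subgroup G) (le_max_left k₁ k₂) hx
      have h2 : π₁ x ∈ ((⊤ : Subgroup G).lowerCentralSeries k₁).map π₁ := ⟨x, h1, rfl⟩
      rw [Subgroup.map_lowerCentralSeries, Subgroup.map_top_of_surjective π₁ hπ₁] at h2
      exact hk₁ h2
    · intro x hx
      have h1 := Subgroup.lowerCentralSeries_antitone (⊤ : Subgroup G) (le_max_right k₁ k₂) hx
      have h2 : π₂ x ∈ ((⊤ : Subgroup G).lowerCentralSeries k₂).map π₂ := ⟨x, h1, rfl⟩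
      rw [Subgroup.map_lowerCentralSeries, Subgroup.map_top_of_surjective π₂ hπ₂, hk₂,
        Subgroup.mem_bot] at h2
      exact (QuotientGroup.eq_one_iff x).mp h2

/-- **Fitting height two.** -/
theorem height_two {G : Type u} {A : Type v} [Group G] [Finite G] [Group.IsSolvable G] [Group A] [Finite A]
    (α : A →* MulAut G) {p q : ℕ} (hp : p.Prime) (hq : q.Prime) (hlt : q < p)
    (hA : Nat.card A = p * q) (hAna : ¬ IsMulCommutative A) (hcop : (Nat.card G).Coprime (p * q))
    (hfpf : ∀ g : G, (∀ a : A, α a g = g) → g = 1) :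
    ∃ F : Subgroup G, ∃ hF : F.Normal, Group.IsNilpotent ↥F ∧ Group.IsNilpotent (G ⧸ F) := by
  obtain ⟨a₀, h1, h2, h3, h4⟩ := exists_gen hp hq hlt hA hAna
  have hD : AData p q a₀ := ⟨hp, hq, by omega, hA, h1, h2, h3, h4⟩
  obtain ⟨N, hNn, hNnil, k, hk⟩ := height_ind hD _ G rfl inferInstance α hfpf (by
    rw [hA]
    exact hcop.symm)
  refine ⟨N, hNn, hNnil, ?_⟩
  apply Subgroup.nilpotent_iff_lowerCentralSeries.mpr
  refine ⟨k, ?_⟩
  have hπ : Function.Surjective (QuotientGroup.mk' N) := QuotientGroup.mk'_surjective N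
  rw [eq_bot_iff, ← Subgroup.map_top_of_surjective _ hπ, ← Subgroup.map_lowerCentralSeries]
  rintro _ ⟨x, hx, rfl⟩
  rw [Subgroup.mem_bot]
  exact (QuotientGroup.eq_one_iff x).mpr (hk hx)

end Cfsg.Agent.Lib.FrobAct.Height
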