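import Cfsg.Agent.Lib.FrobAct.Sec
import Cfsg.Agent.Lib.FrobAct.LCount
import Cfsg.Agent.S0033

/-!
# Nilpotency of `X` in an irreducible module for `X ⋊ A`
-/

set_option autoImplicit false

namespace Cfsg.Agent.Lib.FrobAct.Nil

open Cfsg Cfsg.Agent.Lib.Core.Basic Cfsg.Agent.Lib.FPFThompson.Main
open Cfsg.Agent.Lib.Ward.Norm Cfsg.Agent.Lib.Ward.Setup Cfsg.Agent.Lib.Ward.Elem
open Cfsg.Agent.Lib.FrobAct.Basic Cfsg.Agent.Lib.FrobAct.Weights Cfsg.Agent.Lib.FrobAct.Irr
open Cfsg.Agent.Lib.FrobAct.Sec Cfsg.Agent.Lib.FrobAct.LMin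
open Cfsg.Agent.Lib.Coprime.Action
open scoped commutatorElement

/-- The image of a normalizing element normalizes the image. -/
theorem map_norm {G H : Type*} [Group G] [Group H] [Finite H] (φ : G →* H) {K : Subgroup G} {g : G}
    (hg : g ∈ Subgroup.normalizer (K : Set G)) : φ g ∈ Subgroup.normalizer ((K.map φ : Subgroup H) : Set H) := by
  apply IsF.mem_normalizer_of_conj
  rintro _ ⟨k, hk, rfl⟩
  refine ⟨g * k * g⁻¹, nconj hg hk, ?_⟩
  simp

/-- Transfer of Theorem L to a group acting with a kernel. -/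
theorem centralizes_mod {Γ₁ Y' : Type*} [Group Γ₁] [Finite Γ₁] [AddCommGroup Y'] [Finite Y']
    [DistribMulAction Γ₁ Y'] {r s q : ℕ} (K D : Subgroup Γ₁) (c : Γ₁)
    (hr : r.Prime) (hs : s.Prime) (hq : q.Prime) (hsr : s ≠ r) (hqr : q ≠ r) (hsq : s ≠ q)
    (Yexp : ∀ y : Y', r • y = 0) (Ycard : ∃ k, Nat.card Y' = r ^ k) (hKp : IsPGroup s K)
    (hDp : IsPGroup r D) (hcq : c ^ q = 1) (hcK : c ∈ Subgroup.normalizer (K : Set Γ₁))
    (hcD : c ∈ Subgroup.normalizer (D : Set Γ₁)) (hDK : D ≤ Subgroup.normalizer (K : Set Γ₁))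
    (hDq : (Nat.card D).Coprime q) (hcfree : ∀ d ∈ D, c * d * c⁻¹ = d → d = 1)
    (hcY : ∀ y : Y', c • y = y → y = 0) (hne : ∃ y : Y', y ≠ 0) {d x : Γ₁} (hd : d ∈ D) (hx : x ∈ K)
    (y : Y') : (d * x * d⁻¹ * x⁻¹) • y = y := by
  classical
  haveI : Fact r.Prime := ⟨hr⟩
  haveI : Fact s.Prime := ⟨hs⟩
  haveI : Fact q.Prime := ⟨hq⟩
  haveI : Finite (AddMonoid.End Y') :=
    Finite.of_injective (fun f : AddMonoid.End Y' => (f : Y' → Y')) DFunLike.coe_injective
  haveI : Finite (AddMonoid.End Y')ˣ := Finite.of_injective Units.val fun _ _ h => Units.ext h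
  let φ : Γ₁ →* (AddMonoid.End Y')ˣ := (DistribMulAction.toAddMonoidEnd Γ₁ Y').toHomUnits
  have hφ : ∀ (g : Γ₁) (y : Y'), φ g • y = g • y := fun _ _ => rfl
  have hc1 : φ c ≠ 1 := by
    intro h1
    obtain ⟨y, hy⟩ := hne
    apply hy
    apply hcY
    rw [← hφ, h1, one_smul]
  have hord : orderOf (φ c) = q := orderOf_eq_prime (by rw [← map_pow, hcq, map_one]) hc1
  obtain ⟨m, hm⟩ := IsPGroup.iff_card.mp hDp
  have hPd : Nat.card (D.map φ) ∣ Nat.card D := Subgroup.card_map_dvd D φ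
  have hfr : ∀ d ∈ D, φ c * φ d * (φ c)⁻¹ = φ d → φ d = 1 := by
    intro d hd hcd
    let N : Subgroup Γ₁ := D ⊓ φ.ker
    have hzp : Subgroup.zpowers c ≤ Subgroup.normalizer (D : Set Γ₁) := (Subgroup.zpowers_le).mpr hcD
    have hNnorm : ∀ g ∈ Subgroup.normalizer (D : Set Γ₁), g ∈ Subgroup.normalizer (N : Set Γ₁) := by
      intro g hg
      apply IsF.mem_normalizer_of_conj
      rintro k ⟨hk1, hk2⟩
      refine ⟨nconj hg hk1, ?_⟩
      have h1 : φ k = 1 := hk2
      show φ _ = 1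
      rw [map_mul, map_mul, h1]
      simp
    have hcomm : Commute (φ c) (φ d) := by
      show φ c * φ d = φ d * φ c
      calc φ c * φ d = (φ c * φ d * (φ c)⁻¹) * φ c := by group
        _ = φ d * φ c := by rw [hcd]
    obtain ⟨f, hf, hfN⟩ := exists_fixed_of_fixed_mod N (A := Subgroup.zpowers c) (K := D) hzp
      (by
        rw [Nat.card_zpowers, orderOf_eq_prime hcq (by
          rintro rfl
          have := hcY
          obtain ⟨y, hy⟩ := hne
          exact hy (hcY y (one_smul _ y)))]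
        exact hDq.symm)
      (Or.inr (by
        haveI : Group.IsNilpotent D := hDp.isNilpotent
        infer_instance))
      inf_le_left (fun g hg => hNnorm g (Subgroup.le_normalizer hg))
      (fun g hg => hNnorm g (hzp hg)) hd (by
        intro a ha
        refine ⟨D.mul_mem (nconj (hzp ha) hd) (D.inv_mem hd), ?_⟩
        obtain ⟨j, rfl⟩ := Subgroup.mem_zpowers_iff.mp ha
        have h1 : φ (c ^ j) * φ d = φ d * φ (c ^ j) := by
          rw [map_zpow]
          exact (hcomm.zpow_left j).eq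
        show φ _ = 1
        rw [map_mul, map_mul, map_mul, map_inv, map_inv, h1]
        group)
    have hf1 : f = 1 := by
      apply hcfree f hf.1
      have h1 := Subgroup.mem_centralizer_iff.mp hf.2 c (Subgroup.mem_zpowers c)
      rw [h1]
      group
    rw [hf1, mul_one] at hfN
    have h2 : φ d⁻¹ = 1 := hfN.2
    rwa [map_inv, inv_eq_one] at h2
  have hcent := centralizes_of_frob (V := Y') (K.map φ) (D.map φ) (φ c) hr hs hq hsr hqr hsq Yexp Ycard
    (hKp.map φ) hord (map_norm φ hcK) (map_norm φ hcD)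
    (by
      rintro _ ⟨g, hg, rfl⟩
      exact map_norm φ (hDK hg))
    (by
      apply Nat.Coprime.coprime_dvd_left hPd
      rw [hm]
      exact Nat.Coprime.pow_left m ((Nat.coprime_primes hr hs).mpr hsr.symm))
    (Nat.Coprime.coprime_dvd_left hPd hDq)
    (by
      have hP : IsPGroup r (D.map φ) := hDp.map φ
      exact hP.isNilpotent)
    (by
      rintro _ ⟨g, hg, rfl⟩ h1
      exact hfr g hg h1)
    (by
      intro g _ h1
      ext y
      exact h1 y)
    (fun y hy => hcY y hy)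
  have h1 := Subgroup.mem_centralizer_iff.mp (hcent ⟨x, hx, rfl⟩) (φ d) ⟨d, hd, rfl⟩
  have h2 : φ (d * x * d⁻¹ * x⁻¹) = 1 := by
    rw [map_mul, map_mul, map_mul, map_inv, map_inv, h1]
    group
  rw [← hφ, h2, one_smul]

end Cfsg.Agent.Lib.FrobAct.Nil

namespace Cfsg.Agent.Lib.FrobAct.Sec.Sec

open Cfsg Cfsg.Agent.Lib.Core.Basic Cfsg.Agent.Lib.FPFThompson.Main
open Cfsg.Agent.Lib.Ward.Norm Cfsg.Agent.Lib.Ward.Setup Cfsg.Agent.Lib.Ward.Elem
open Cfsg.Agent.Lib.FrobAct.Basic Cfsg.Agent.Lib.FrobAct.Weights Cfsg.Agent.Lib.FrobAct.Irr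
open Cfsg.Agent.Lib.FrobAct.LMin Cfsg.Agent.Lib.FrobAct.Nil
open Cfsg.Agent.Lib.Coprime.Action
open scoped commutatorElement

variable {Γ : Type*} [Group Γ] [Finite Γ]
variable {V : Type*} [AddCommGroup V] [Finite V] [DistribMulAction Γ V]

variable {r p q : ℕ} {A : Subgroup Γ} {a : Γ} {X : Subgroup Γ} {c : Γ} {Y : AddSubgroup V}
  (h : Sec V r p q A a X c Y)
include h

theorem c_pow : c ^ q = 1 := by
  rw [← h.I.F.orderOf_of_notMem h.cA h.ca]
  exact pow_orderOf_eq_one c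

theorem D_le : cen X a ≤ X := inf_le_left

/-- `C_X(a)` is an `r`-group. -/
theorem D_rgroup : IsPGroup r (cen X a) := by
  haveI : Fact r.Prime := ⟨h.I.rprime⟩
  apply IsPGroup.of_card (n := (Nat.card (cen X a)).primeFactorsList.length)
  apply Nat.eq_prime_pow_of_unique_prime_dvd Nat.card_pos.ne'
  intro d hd hdv
  by_contra hdr
  haveI : Fact d.Prime := ⟨hd⟩
  have hAK : Subgroup.zpowers c ≤ Subgroup.normalizer ((cen X a : Subgroup Γ) : Set Γ) :=
    (Subgroup.zpowers_le).mpr (IsF.mem_normalizer_of_conj _ fun x hx => h.D_conj h.cA hx)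
  obtain ⟨Q, hQ, hcQ⟩ := exists_invariant_sylowIn (p := d) (A := Subgroup.zpowers c) (K := cen X a) hAK
    (Nat.Coprime.coprime_dvd_left (Subgroup.card_dvd_of_le ((Subgroup.zpowers_le).mpr h.cA))
      (h.I.cop h.D_le)) (Or.inr (h.I.solv h.D_le))
  have hQ1 : ∀ g ∈ Q, g = 1 := by
    intro g hg
    refine h.D_fix hQ.1 ?_ hg
    intro y hy w hw
    refine frob_trivial Q h.I.F.hq h.c_pow
      (fun y hy => nconj (hcQ (Subgroup.mem_zpowers c)) hy)
      (fun y hy hcy => h.D_free (hQ.1 hy) hcy) Y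
      (fun y hy w hw => h.YX y (h.D_le (hQ.1 hy)) w hw) h.Yc h.Yfree ?_ hy hw
    intro w _ hw0
    obtain ⟨k, hk⟩ := IsPGroup.iff_card.mp hQ.2.1
    refine nsmul_cancel ?_ hw0
    rw [hk]
    exact Nat.Coprime.pow_left k (h.I.copV hd hdr)
  have hQb : Q = ⊥ := by
    rw [eq_bot_iff]
    intro g hg
    exact hQ1 g hg
  have h1 := card_eq_card_mul_relIndex hQ.1
  rw [hQb, Subgroup.card_bot, one_mul] at h1
  apply hQ.2.2
  rw [hQb] at *
  rw [← h1]
  exact hdv

/-- `C_X(a)` centralizes normal `s`-subgroups for `s ≠ r`. -/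
theorem comm_core {s : ℕ} (hs : s.Prime) (hsr : s ≠ r) {K : Subgroup Γ} (hKX : K ≤ X) (hKn : K.Normal)
    (hK : IsPGroup s K) {d x : Γ} (hd : d ∈ cen X a) (hx : x ∈ K) : d * x = x * d := by
  classical
  by_cases hKb : K = ⊥
  · rw [hKb, Subgroup.mem_bot] at hx
    rw [hx]
    group
  haveI : Fact s.Prime := ⟨hs⟩
  have hF := h.I.F
  have hsq : s ≠ q := by
    rintro rfl
    obtain ⟨k, hk⟩ := IsPGroup.iff_card.mp hK
    have hk0 : k ≠ 0 := by
      rintro rfl
      exact hKb (Subgroup.eq_bot_of_card_eq K (by simpa using hk))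
    have h1 : s ∣ Nat.card K := by rw [hk]; exact dvd_pow_self s hk0
    have h2 : s ∣ Nat.card A := by rw [hF.card]; exact dvd_mul_left s p
    exact Nat.not_coprime_of_dvd_of_dvd hs.one_lt h2 h1 (h.I.cop hKX)
  have hqr : q ≠ r := by
    rintro rfl
    have h2 : q ∣ Nat.card A := by rw [hF.card]; exact dvd_mul_left q p
    have h3 := Nat.Coprime.coprime_dvd_left h2 h.I.Ar
    exact hF.hq.one_lt.ne' (by simpa using h3)
  -- the stabilizer of `Y`
  let S₀ : Subgroup Γ :=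
    { carrier := {g | (∀ y ∈ Y, g • y ∈ Y) ∧ ∀ y ∈ Y, g⁻¹ • y ∈ Y}
      mul_mem' := by
        rintro g k ⟨h1, h2⟩ ⟨k1, k2⟩
        refine ⟨fun y hy => ?_, fun y hy => ?_⟩
        · rw [mul_smul]
          exact h1 _ (k1 y hy)
        · rw [mul_inv_rev, mul_smul]
          exact k2 _ (h2 y hy)
      one_mem' := ⟨fun y hy => by simpa using hy, fun y hy => by simpa using hy⟩
      inv_mem' := by
        rintro g ⟨h1, h2⟩
        exact ⟨h2, fun y hy => by simpa using h1 y hy⟩ }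
  have hXS : X ≤ S₀ := fun g hg => ⟨fun y hy => h.YX g hg y hy, fun y hy => h.YX _ (X.inv_mem hg) y hy⟩
  have hcS : c ∈ S₀ := by
    refine ⟨h.Yc, fun y hy => ?_⟩
    have hq1 := hF.hq.one_lt
    have e : c⁻¹ = c ^ (q - 1) := by
      apply inv_eq_of_mul_eq_one_left
      rw [← pow_succ, Nat.sub_add_cancel hq1.le, h.c_pow]
    rw [e]
    exact h.pow_smul_mem _ hy
  letI act : DistribMulAction S₀ Y :=
    { smul := fun g y => ⟨(g : Γ) • (y : V), g.2.1 y y.2⟩
      one_smul := fun y => Subtype.ext (one_smul Γ (y : V))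
      mul_smul := fun g k y => Subtype.ext (mul_smul (g : Γ) (k : Γ) (y : V))
      smul_zero := fun g => Subtype.ext (smul_zero (g : Γ))
      smul_add := fun g y z => Subtype.ext (smul_add (g : Γ) (y : V) (z : V)) }
  have hact : ∀ (g : S₀) (y : Y), ((g • y : Y) : V) = (g : Γ) • (y : V) := fun _ _ => rfl
  have hDS : cen X a ≤ S₀ := h.D_le.trans hXS
  have hKS : K ≤ S₀ := hKX.trans hXS
  have hDr := h.D_rgroup
  have hsubP : ∀ {t : ℕ} {L : Subgroup Γ}, IsPGroup t L → IsPGroup t (L.subgroupOf S₀) :=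
    fun hP => hP.comap_subtype
  have hYcard : ∃ k, Nat.card Y = r ^ k := by
    obtain ⟨k, hk⟩ := h.I.Vr
    haveI : Fact r.Prime := ⟨h.I.rprime⟩
    have h1 : Nat.card Y ∣ r ^ k := by
      rw [← hk]
      exact AddSubgroup.card_addSubgroup_dvd_card Y
    obtain ⟨j, -, hj⟩ := (Nat.dvd_prime_pow h.I.rprime).mp h1
    exact ⟨j, hj⟩
  have hYne : ∃ y : Y, y ≠ 0 := by
    by_contra hcon
    push Not at hcon
    apply h.Yne
    rw [eq_bot_iff]
    intro y hy
    exact congrArg Subtype.val (hcon ⟨y, hy⟩)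
  have hnorm : ∀ {L : Subgroup Γ} {g : Γ} (hg : g ∈ S₀), g ∈ Subgroup.normalizer (L : Set Γ) →
      (⟨g, hg⟩ : S₀) ∈ Subgroup.normalizer ((L.subgroupOf S₀ : Subgroup S₀) : Set S₀) := by
    intro L g hg h1
    apply IsF.mem_normalizer_of_conj
    intro x hx
    exact Subgroup.mem_subgroupOf.mpr (nconj h1 (Subgroup.mem_subgroupOf.mp hx))
  have hcD : c ∈ Subgroup.normalizer ((cen X a : Subgroup Γ) : Set Γ) :=
    IsF.mem_normalizer_of_conj _ fun x hx => h.D_conj h.cA hx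
  have hkey : ∀ {d x : Γ}, d ∈ cen X a → x ∈ K → ∀ y ∈ Y, (d * x * d⁻¹ * x⁻¹) • y = y := by
    intro d x hd hx y hy
    have h1 := centralizes_mod (Γ₁ := S₀) (Y' := Y) (r := r) (s := s) (q := q) (K.subgroupOf S₀)
      ((cen X a).subgroupOf S₀) ⟨c, hcS⟩ h.I.rprime hs hF.hq hsr hqr hsq
      (fun y => Subtype.ext (h.I.Vexp y)) hYcard (hsubP hK) (hsubP hDr)
      (Subtype.ext h.c_pow) (hnorm hcS (normalizer_of_normal hKn c)) (hnorm hcS hcD)
      (fun g _ => hnorm g.2 (normalizer_of_normal hKn g))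
      (by
        rw [Nat.card_congr (Subgroup.subgroupOfEquivOfLe hDS).toEquiv]
        exact Nat.Coprime.coprime_dvd_right (by rw [hF.card]; exact dvd_mul_left q p)
          (h.I.cop h.D_le).symm)
      (fun g hg hcg => Subtype.ext (h.D_free (Subgroup.mem_subgroupOf.mp hg) (congrArg Subtype.val hcg)))
      (fun y hy => Subtype.ext (h.Yfree y y.2 (congrArg Subtype.val hy))) hYne
      (d := ⟨d, hDS hd⟩) (x := ⟨x, hKS hx⟩) (Subgroup.mem_subgroupOf.mpr hd)
      (Subgroup.mem_subgroupOf.mpr hx) ⟨y, hy⟩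
    exact congrArg Subtype.val h1
  let Fx : Subgroup Γ :=
    { carrier := {g | ∀ y ∈ Y, g • y = y}
      mul_mem' := by
        intro g k hg hk y hy
        rw [mul_smul, hk y hy, hg y hy]
      one_mem' := fun y _ => one_smul Γ y
      inv_mem' := by
        intro g hg y hy
        rw [inv_smul_eq_iff, hg y hy] }
  let S : Subgroup Γ := ⁅cen X a, K⁆
  have hSfix : ∀ g ∈ S, ∀ y ∈ Y, g • y = y := by
    have hle : S ≤ Fx := Subgroup.commutator_le.mpr fun d hd x hx => hkey hd hx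
    exact fun g hg => hle hg
  have haD : a ∈ Subgroup.normalizer ((cen X a : Subgroup Γ) : Set Γ) := by
    apply IsF.mem_normalizer_of_conj
    intro x hx
    have h1 := (mem_cen.mp hx).2
    rw [h1]
    simpa using hx
  have hSa : a ∈ Subgroup.normalizer (S : Set Γ) :=
    le_normalizer_commutator_of_le (T := Subgroup.zpowers a) ((Subgroup.zpowers_le).mpr haD)
      ((Subgroup.zpowers_le).mpr (normalizer_of_normal hKn a)) (Subgroup.mem_zpowers a)
  have hg : ⁅d, x⁆ ∈ S := Subgroup.commutator_mem_commutator hd hx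
  have hSX : S ≤ X := by
    haveI := hKn
    exact (Subgroup.commutator_le_right _ _).trans hKX
  have h1 := h.I.Xf _ (hSX hg) (fun v => h.fix_all S hSa hSfix hg v)
  exact commutatorElement_eq_one_iff_mul_comm.mp h1

/-- `C_X(a)` is trivial. -/
theorem D_bot {d : Γ} (hd : d ∈ cen X a) : d = 1 := by
  haveI := h.I.Xn
  haveI := h.I.Xsol
  haveI : Fact r.Prime := ⟨h.I.rprime⟩
  have hdX : d ∈ X := h.D_le hd
  have hle : fittingSubgroup X ≤ (Subgroup.centralizer ({d} : Set Γ)).comap X.subtype := by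
    rw [fittingSubgroup_eq_iSup_pCore]
    refine iSup_le fun s => ?_
    intro y hy
    haveI : Fact (s : ℕ).Prime := ⟨s.2⟩
    by_cases hsr : (s : ℕ) = r
    · rw [hsr, h.I.pCore_r_eq_bot, Subgroup.mem_bot] at hy
      rw [hy]
      exact Subgroup.one_mem _
    · show (y : Γ) ∈ Subgroup.centralizer ({d} : Set Γ)
      rw [Subgroup.mem_centralizer_singleton_iff]
      exact (h.comm_core s.2 hsr (K := (pCore (s : ℕ) X).map X.subtype) (Subgroup.map_subtype_le _)
        (Irr.map_normal_of_char h.I.Xn _) (pCore_isPGroup.map X.subtype) hd ⟨y, hy, rfl⟩).symm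
  have hdF : (⟨d, hdX⟩ : X) ∈ fittingSubgroup X := by
    apply Cfsg.Agent.Lib.Solvable.Fitting.centralizer_fittingSubgroup_le
    rw [Subgroup.mem_centralizer_iff]
    intro f hf
    apply Subtype.ext
    exact (Subgroup.mem_centralizer_singleton_iff.mp (hle hf))
  let F₀ : Subgroup Γ := (fittingSubgroup X).map X.subtype
  have hF₀ : F₀.Normal := Irr.map_normal_of_char h.I.Xn _
  let T' : Subgroup Γ :=
    { carrier := {x | x ∈ F₀ ∧ (∀ y ∈ F₀, x * y = y * x) ∧ ∃ n : ℕ, x ^ (r ^ n) = 1}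
      mul_mem' := by
        rintro x y ⟨h1, h2, n, hn⟩ ⟨k1, k2, m, hm⟩
        refine ⟨F₀.mul_mem h1 k1, fun z hz => ?_, n + m, ?_⟩
        · rw [mul_assoc, k2 z hz, ← mul_assoc, h2 z hz, mul_assoc]
        · have hc : Commute x y := h2 y k1
          rw [hc.mul_pow, pow_add, pow_mul, hn, one_pow, one_mul, mul_comm, pow_mul, hm, one_pow]
      one_mem' := ⟨F₀.one_mem, fun y _ => by simp, 0, by simp⟩
      inv_mem' := by
        rintro x ⟨h1, h2, n, hn⟩
        refine ⟨F₀.inv_mem h1, fun y hy => ?_, n, by rw [inv_pow, hn, inv_one]⟩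
        have hc : Commute x y := h2 y hy
        exact hc.inv_left }
  have hT'n : T'.Normal := by
    constructor
    rintro x ⟨h1, h2, n, hn⟩ g
    refine ⟨hF₀.conj_mem x h1 g, fun y hy => ?_, n, by rw [conj_pow, hn]; group⟩
    have h3 : g⁻¹ * y * g ∈ F₀ := by simpa using hF₀.conj_mem y hy g⁻¹
    have h4 := h2 _ h3
    calc g * x * g⁻¹ * y = g * (x * (g⁻¹ * y * g)) * g⁻¹ := by group
      _ = g * ((g⁻¹ * y * g) * x) * g⁻¹ := by rw [h4]
      _ = y * (g * x * g⁻¹) := by group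
  have hT'X : T' ≤ X := by
    rintro x ⟨⟨f, -, rfl⟩, -⟩
    exact f.2
  have hT'p : IsPGroup r T' := by
    rintro ⟨x, h1, h2, n, hn⟩
    exact ⟨n, Subtype.ext hn⟩
  have hT'b := h.I.no_r hT'X hT'n hT'p
  have hdT : d ∈ T' := by
    refine ⟨⟨⟨d, hdX⟩, hdF, rfl⟩, ?_, ?_⟩
    · rintro _ ⟨f, hf, rfl⟩
      exact (Subgroup.mem_centralizer_singleton_iff.mp (hle hf)).symm
    · obtain ⟨n, hn⟩ := h.D_rgroup ⟨d, hd⟩
      exact ⟨n, congrArg Subtype.val hn⟩
  rw [hT'b, Subgroup.mem_bot] at hdT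
  exact hdT

end Cfsg.Agent.Lib.FrobAct.Sec.Sec

namespace Cfsg.Agent.Lib.FrobAct.Irr.Irr

open Cfsg Cfsg.Agent.Lib.Core.Basic Cfsg.Agent.Lib.FPFThompson.Main
open Cfsg.Agent.Lib.Ward.Norm Cfsg.Agent.Lib.Ward.Setup Cfsg.Agent.Lib.Ward.Elem
open Cfsg.Agent.Lib.FrobAct.Basic Cfsg.Agent.Lib.FrobAct.Weights Cfsg.Agent.Lib.FrobAct.Irr
open Cfsg.Agent.Lib.FrobAct.Sec

variable {Γ : Type*} [Group Γ] [Finite Γ]
variable {V : Type*} [AddCommGroup V] [Finite V] [DistribMulAction Γ V]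
variable {r p q : ℕ} {A : Subgroup Γ} {a : Γ} {X : Subgroup Γ}

/-- `X` is nilpotent. -/
theorem nil (h : Irr V r p q A a X) : Group.IsNilpotent X := by
  haveI := h.Xn
  have hF := h.F
  by_cases hX : X = ⊥
  · subst hX
    infer_instance
  have key : ∀ (b : Γ) (n : ℕ), n.Prime → b ^ n = 1 → (∀ x ∈ X, b * x * b⁻¹ = x → x = 1) →
      Group.IsNilpotent X := by
    intro b n hn hb hfree
    haveI : Fact n.Prime := ⟨hn⟩
    let ψ : MulAut X := MulAut.conjNormal b
    have hψ : ∀ y : X, ((ψ y : X) : Γ) = b * y * b⁻¹ := fun y => MulAut.conjNormal_apply b y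
    have hfpf : MonoidHom.FixedPointFree (ψ : X →* X) := by
      intro y hy
      apply Subtype.ext
      apply hfree y y.2
      rw [← hψ]
      exact congrArg Subtype.val hy
    have hψ1 : ψ ≠ 1 := by
      intro h1
      apply hX
      rw [eq_bot_iff]
      intro x hx
      have h2 : (⟨x, hx⟩ : X) = 1 := hfpf ⟨x, hx⟩ (show ψ ⟨x, hx⟩ = ⟨x, hx⟩ by
        rw [h1]
        rfl)
      exact congrArg Subtype.val h2
    have hord : orderOf ψ = n := orderOf_eq_prime (by rw [← map_pow, hb, map_one]) hψ1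
    exact Cfsg.Agent.S0033.result ψ hfpf n hn hord
  obtain ⟨u, Z, hS, -, -⟩ := h.exists_sys hX
  by_cases hac : ∀ z ∈ Z, a * z = z * a
  · have hfree : ∀ v : V, a • v = v → v = 0 := fun v hv => hS.free_of_centralizes hac hv
    have hcen : ∀ x ∈ X, a * x = x * a := fun x hx => h.centralizes_X hfree hx
    obtain ⟨t, ht, hta⟩ := hF.exists_notMem
    refine key t q hF.hq ?_ ?_
    · rw [← hF.orderOf_of_notMem ht hta]
      exact pow_orderOf_eq_one t
    · intro x hx htx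
      refine h.eq_one_of_comm hF.aA ht hF.a1 hta hx (hcen x hx) ?_
      calc t * x = (t * x * t⁻¹) * t := by group
        _ = x * t := by rw [htx]
  · push Not at hac
    obtain ⟨z, hz, hna⟩ := hac
    obtain ⟨c, Y, hSec⟩ := exists_sec h hS hz hna
    refine key a p hF.hp hF.ap ?_
    intro x hx hax
    apply hSec.D_bot
    refine mem_cen.mpr ⟨hx, ?_⟩
    calc a * x = (a * x * a⁻¹) * a := by group
      _ = x * a := by rw [hax]

end Cfsg.Agent.Lib.FrobAct.Irr.Irr
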